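import Groth.Agent.S11763
import Groth.Agent.S3572
import Groth.Agent.S3573
import Groth.Agent.S4462
import Groth.Agent.S6712
import Groth.Agent.Lift3.ClosedFibre
import Groth.Agent.Lift3.AdicPic
import Groth.Agent.DCK91.PullStalk
import Groth.Agent.RB70.PnModuleTwist
import Groth.Agent.Props58.PullTensor
import Groth.Agent.Approx60.Segre
import Groth.Agent.EGA73.AffineSections
import Groth.Agent.Curves2.Pencil.BpfTrick

/-! Lifting an isomorphism of the closed fibre with projective space. -/

set_option autoImplicit false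
set_option maxSynthPendingDepth 6
set_option linter.style.haveILetI false
set_option backward.isDefEq.respectTransparency.types false

universe u

open CategoryTheory CategoryTheory.Limits AlgebraicGeometry TopologicalSpace Opposite IsLocalRing

noncomputable section

namespace Groth.Agent.Def84

open QC70

theorem map_pullSec {X Y : Scheme.{u}} (f : X ⟶ Y) {M N : Y.Modules} (φ : M ⟶ N) (s : ProjUP.Γm M) :
    ((Scheme.Modules.pullback f).map φ).app ⊤ (ProjUP.pullSec f M s) = ProjUP.pullSec f N (φ.app ⊤ s) :=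
  Amp73.map_app_pullS f φ ⊤ s

theorem pullbackComp_pullSec {X Y Z : Scheme.{u}} (f : X ⟶ Y) (g : Y ⟶ Z) (M : Z.Modules) (s : ProjUP.Γm M) :
    ((Scheme.Modules.pullbackComp f g).inv.app M).app ⊤ (ProjUP.pullSec (f ≫ g) M s) =
      ProjUP.pullSec f ((Scheme.Modules.pullback g).obj M) (ProjUP.pullSec g M s) :=
  Props58.PullTensor.pullS_comp f g M ⊤ s

theorem pullbackComp_hom_pullSec {X Y Z : Scheme.{u}} (f : X ⟶ Y) (g : Y ⟶ Z) (M : Z.Modules) (s : ProjUP.Γm M) :
    ((Scheme.Modules.pullbackComp f g).hom.app M).app ⊤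
      (ProjUP.pullSec f ((Scheme.Modules.pullback g).obj M) (ProjUP.pullSec g M s)) = ProjUP.pullSec (f ≫ g) M s := by
  rw [← pullbackComp_pullSec, ← ConcreteCategory.comp_apply, ← Scheme.Modules.Hom.comp_app,
    Iso.inv_hom_id_app]
  rfl

theorem pullbackCongr_pullSec {X Y : Scheme.{u}} {f f' : X ⟶ Y} (h : f = f') (M : Y.Modules) (s : ProjUP.Γm M) :
    ((Scheme.Modules.pullbackCongr h).hom.app M).app ⊤ (ProjUP.pullSec f M s) = ProjUP.pullSec f' M s := by
  subst h
  simp [Scheme.Modules.pullbackCongr]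

/-- Cohomology is invariant under inverse image along an isomorphism. -/
theorem nonempty_hh_pullback {X Y : Scheme.{u}} (j : X ⟶ Y) [IsIso j] (F : Y.Modules) [F.IsQuasicoherent] (n : ℕ) :
    Nonempty (Coh.HH Y F n ≃ Coh.HH X ((Scheme.Modules.pullback j).obj F) n) := by
  haveI : ((Scheme.Modules.pullback j).obj F).IsQuasicoherent := QCPull72.isQuasicoherent_pullback _ F
  obtain ⟨e₁⟩ := Coh69.nonempty_hh_push j ((Scheme.Modules.pullback j).obj F) n
  have hker : IsIso (QCPull72.pullUnit j F) := (QCPull72.isIso_pullUnit_iff j F).2 fun U a ha s => by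
    have hk : j.ker = ⊥ := Scheme.Hom.ker_eq_bot_of_isIso j
    rw [hk] at ha
    rw [show a = 0 by simpa using ha, zero_smul]
  exact ⟨((Sheaf.functorH _ n).mapIso ((SheafOfModules.toSheaf _).mapIso
    (@asIso _ _ _ _ (QCPull72.pullUnit j F) hker))).addCommGroupIsoToAddEquiv.toEquiv.trans e₁.toEquiv.symm⟩

theorem map_comm {S T T' X P : Scheme.{u}} (f : X ⟶ S) (q : P ⟶ S) (φ : X ⟶ P) (hφ : φ ≫ q = f)
    (j : T ⟶ S) (j' : T' ⟶ S) (c : T ⟶ T') (hc : j ≫ 𝟙 S = c ≫ j') :
    pullback.map f j f j' (𝟙 X) c (𝟙 S) (by simp) hc ≫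
      pullback.map f j' q j' φ (𝟙 T') (𝟙 S) ((Category.comp_id _).trans hφ.symm)
        ((Category.comp_id _).trans (Category.id_comp _).symm) =
    pullback.map f j q j φ (𝟙 T) (𝟙 S) ((Category.comp_id _).trans hφ.symm)
        ((Category.comp_id _).trans (Category.id_comp _).symm) ≫
      pullback.map q j q j' (𝟙 P) c (𝟙 S) (by simp) hc := by
  ext1
  · rw [Category.assoc, Category.assoc, pullback.lift_fst, pullback.lift_fst, ← Category.assoc,
      pullback.lift_fst]
    refine ((congrArg (· ≫ φ) (Category.comp_id _)).trans ?_)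
    refine Eq.trans ?_ (congrArg (pullback.map f j q j φ _ _ _ _ ≫ ·) (Category.comp_id _)).symm
    exact (pullback.lift_fst _ _ _).symm
  · rw [Category.assoc, Category.assoc, pullback.lift_snd, pullback.lift_snd]
    refine (congrArg (pullback.map f j f j' _ _ _ _ _ ≫ ·) (Category.comp_id _)).trans ?_
    refine (pullback.lift_snd _ _ _).trans ?_
    rw [← Category.assoc, pullback.lift_snd]
    exact congrArg (· ≫ c) (Category.comp_id _).symm

variable (A : Type u) [CommRing A] [IsLocalRing A]

theorem exists_residueFieldIso : ∃ c : (Spec (CommRingCat.of A)).residueField (closedPoint A) ≅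
      CommRingCat.of (ResidueField A),
    Spec.map c.hom ≫ (Spec (CommRingCat.of A)).fromSpecResidueField (closedPoint A) =
      Spec.map (CommRingCat.ofHom (residue A)) := by
  let Y := Spec (CommRingCat.of A)
  let y : ↥Y := closedPoint A
  have hy : y.asIdeal = maximalIdeal A := rfl
  haveI : y.asIdeal.IsMaximal := hy ▸ inferInstance
  let q := algebraMap A y.asIdeal.ResidueField
  have hq : Function.Surjective q := Ideal.algebraMap_residueField_surjective _
  have hk : RingHom.ker q = RingHom.ker (residue A) := by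
    rw [Ideal.ker_algebraMap_residueField, IsLocalRing.ker_residue, hy]
  let φ : y.asIdeal.ResidueField →+* ResidueField A := RingHom.liftOfSurjective q hq ⟨residue A, hk.le⟩
  have hφ : φ.comp q = residue A := RingHom.liftOfSurjective_comp q hq _
  have hφb : Function.Bijective φ := ⟨φ.injective, fun z => by
    obtain ⟨a, rfl⟩ := residue_surjective z
    exact ⟨q a, RingHom.congr_fun hφ a⟩⟩
  let c : Y.residueField y ≅ CommRingCat.of (ResidueField A) :=
    Scheme.Spec.residueFieldIso _ y ≪≫ (RingEquiv.ofBijective φ hφb).toCommRingCatIso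
  refine ⟨c, ?_⟩
  show Spec.map c.hom ≫ Y.fromSpecResidueField y = _
  rw [← Scheme.Spec.map_residueFieldIso_inv_eq_fromSpecResidueField, ← Spec.map_comp_assoc, ← Spec.map_comp]
  congr 1
  simp only [c, Iso.trans_hom, Iso.inv_hom_id_assoc]
  exact CommRingCat.hom_ext hφ

variable {X : Scheme.{u}} [X.Over (Spec (CommRingCat.of A))]

local notation "fX" => (X ↘ Spec (CommRingCat.of A))
local notation "j₀" => Spec.map (CommRingCat.ofHom (residue A))

theorem subsingleton_fiberH (L : X.Modules) [L.IsQuasicoherent] (n : ℕ)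
    (h : Subsingleton (Coh.HH _ ((Scheme.Modules.pullback (pullback.fst fX j₀)).obj L) n)) :
    Subsingleton (CohIII.fiberH fX L (closedPoint A) n) := by
  let Y := Spec (CommRingCat.of A)
  let y : ↥Y := closedPoint A
  obtain ⟨c, hc⟩ := exists_residueFieldIso A
  let j : pullback fX j₀ ⟶ Scheme.Hom.fiber fX y :=
    pullback.map fX j₀ fX (Y.fromSpecResidueField y) (𝟙 _) (Spec.map c.hom) (𝟙 _) (by simp) (by rw [hc, Category.comp_id])
  have hj : j ≫ Scheme.Hom.fiberι fX y = pullback.fst fX j₀ :=
    (pullback.lift_fst _ _ _).trans (Category.comp_id _)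
  let F := CohIII.fiberMod fX L y
  let eF : (Scheme.Modules.pullback j).obj F ≅ (Scheme.Modules.pullback (pullback.fst fX j₀)).obj L :=
    ((Scheme.Modules.pullbackComp j (Scheme.Hom.fiberι fX y)).app L) ≪≫ (Scheme.Modules.pullbackCongr hj).app L
  haveI : IsIso j := by show IsIso (pullback.map _ _ _ _ _ _ _ _ _); infer_instance
  haveI : F.IsQuasicoherent := QCPull72.isQuasicoherent_pullback _ L
  obtain ⟨e⟩ := nonempty_hh_pullback j F n
  haveI := Lift3.AdicPic.subsingleton_hh_of_iso eF.symm n h
  exact e.subsingleton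

/-- Sections lifting generators of the closed fibre generate. -/
theorem generatedBy_of_closedFibre [IsNoetherianRing A] [IsProper fX] (L : X.Modules) (hL : PicF.IsInvertible L)
    {ι : Type*} [Fintype ι] (s : ι → ProjUP.Γm L)
    (h : ProjUP.GeneratedBy ((Scheme.Modules.pullback (pullback.fst fX j₀)).obj L)
      fun i => ProjUP.pullSec (pullback.fst fX j₀) L (s i)) : ProjUP.GeneratedBy L s := by
  intro x
  let p := pullback.fst fX j₀
  obtain ⟨x₀, hx, z, rfl⟩ := Lift3.ClosedFibre.exists_mem_range_fst A (Z := closure {x}) isClosed_closure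
    ⟨x, subset_closure rfl⟩
  have hsp : x ⤳ p z := specializes_iff_mem_closure.2 hx
  obtain ⟨U, hzU, e, he⟩ := Mero90.exists_frame' hL (p z)
  choose c hc using fun i => (he U le_rfl).2 (res L le_top (s i))
  have hgerm : ∀ (y : X) (hy : y ∈ U) (i : ι), germM L ⊤ y trivial (s i) =
      X.presheaf.germ U y hy (c i) • germM L U y hy e := fun y hy i => by
    rw [← germM_res (le_top : U ≤ ⊤) hy (s i)]
    refine (congrArg (germM L U y hy) (hc i).symm).trans ?_
    rw [germM_smul, germM_res (le_refl U)]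
  obtain ⟨ε, hε⟩ := Curves2.Pencil.exists_stalk_basis (Amp73.isInvertible_pullback p hL) z
  obtain ⟨w, hw⟩ := hε.2 (DCK91.pullη p L z (germM L U (p z) hzU e))
  have hu : ∃ i, IsUnit (X.presheaf.germ U (p z) hzU (c i)) := by
    by_contra hne
    push Not at hne
    have hmem : ε ∈ Submodule.span ((pullback fX j₀).presheaf.stalk z)
        (Set.range fun i => germM ((Scheme.Modules.pullback p).obj L) ⊤ z trivial (ProjUP.pullSec p L (s i))) :=
      (h z).ge trivial
    obtain ⟨a, ha⟩ := (Submodule.mem_span_range_iff_exists_fun _).1 hmem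
    let d : ι → (pullback fX j₀).presheaf.stalk z := fun i => (p.stalkMap z).hom (X.presheaf.germ U (p z) hzU (c i))
    have hd : ∀ i, germM ((Scheme.Modules.pullback p).obj L) ⊤ z trivial (ProjUP.pullSec p L (s i)) =
        (d i * w) • ε := fun i => by
      letI := Module.compHom (((Scheme.Modules.pullback p).obj L).presheaf.stalk z) (p.stalkMap z).hom
      refine (DCK91.pullη_germ p L z (W := ⊤) trivial (s i)).symm.trans ?_
      rw [hgerm (p z) hzU i, map_smul, mul_smul]
      exact congrArg (d i • ·) hw.symm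
    have h1 : (∑ i, a i * (d i * w)) = 1 := hε.1 (by
      show _ • ε = (1 : (pullback fX j₀).presheaf.stalk z) • ε
      rw [one_smul, Finset.sum_smul]
      refine Eq.trans (Finset.sum_congr rfl fun i _ => ?_) ha
      rw [hd i, mul_smul])
    refine (maximalIdeal.isMaximal ((pullback fX j₀).presheaf.stalk z)).ne_top ((Ideal.eq_top_iff_one _).2 (h1 ▸ ?_))
    refine sum_mem fun i _ => Ideal.mul_mem_left _ _ (Ideal.mul_mem_right _ _ ?_)
    exact fun hu => hne i (IsLocalHom.map_nonunit (self := p.toLRSHom.prop z) _ hu)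
  obtain ⟨i, hi⟩ := hu
  have hxB : x ∈ X.basicOpen (c i) := hsp.mem_open (X.basicOpen (c i)).2 ((X.mem_basicOpen _ _ hzU).2 hi)
  have hxU : x ∈ U := X.basicOpen_le _ hxB
  refine eq_top_iff.2 fun v _ => ?_
  obtain ⟨t, rfl⟩ := (Mero90.frame_germ_bijective he ⟨x, hxU⟩).2 v
  obtain ⟨b, hb⟩ := ((X.mem_basicOpen (c i) x hxU).1 hxB).exists_left_inv
  have h3 : t • germM L U x hxU e = (t * b) • germM L ⊤ x trivial (s i) := by
    rw [hgerm x hxU i, smul_smul, mul_assoc, hb, mul_one]
  exact (congrArg (· ∈ _) h3).mpr (Submodule.smul_mem _ (t * b) (Submodule.subset_span ⟨i, rfl⟩))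

variable [IsNoetherianRing A] [IsAdicComplete (maximalIdeal A) A]

theorem exists_iso_projSpace (r : ℕ) [IsProper fX] [Flat fX]
    (e₀ : pullback fX j₀ ≅ CohB1.ProjSpace r (ResidueField A))
    (he₀ : e₀.hom ≫ CohB1.ProjSpace.toSpec r (ResidueField A) = pullback.snd fX _) :
    ∃ e : X ≅ CohB1.ProjSpace r A, e.hom ≫ CohB1.ProjSpace.toSpec r A = fX := by
  let k := ResidueField A
  let i := pullback.fst fX j₀
  let l := Csa25.linMap (n := r) (algebraMap A k) 1 isUnit_one
  have sq : IsPullback l (CohB1.ProjSpace.toSpec r k) (CohB1.ProjSpace.toSpec r A) j₀ :=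
    Csa25.isPullback_linMap_one
  let ε := e₀.hom ≫ l
  let O1 := Twist.twistProjSpace r A 1
  let L₀ := (Scheme.Modules.pullback ε).obj O1
  -- cohomology of the closed fibre
  have hqk : ∀ d : ℤ, (Twist.twistProjSpace r k d).IsQuasicoherent := fun d => Pn71.isQCoh_twistProjSpace r k d
  have h2 : Subsingleton (Coh.HH (pullback fX j₀) (Coh.structureModule _) 2) := by
    obtain ⟨t⟩ : Nonempty (Twist.twistProjSpace r k 0 ≅ Coh.structureModule _) :=
      EGA73.nonempty_twist_zero_iso
    exact Lift3.AdicPic.subsingleton_hh_iso e₀ 2 (Lift3.AdicPic.subsingleton_hh_of_iso t 2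
      (Pn71.subsingleton_hh (A := k) r 0 2 (by omega) (by omega)))
  have h1 : Subsingleton (Coh.HH (pullback fX j₀) L₀ 1) := by
    obtain ⟨t⟩ := RB70.nonempty_pullback_linMap_twist (A := A) (B := k) r 1
    haveI := Pn71.subsingleton_hh (A := k) r 1 1 (by omega) (by omega)
    haveI := hqk 1
    obtain ⟨E⟩ := nonempty_hh_pullback e₀.hom (Twist.twistProjSpace r k 1) 1
    haveI := E.symm.subsingleton
    exact Lift3.AdicPic.subsingleton_hh_of_iso
      (((Scheme.Modules.pullbackComp e₀.hom l).app O1).symm ≪≫ (Scheme.Modules.pullback e₀.hom).mapIso t).symm 1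
      E.symm.subsingleton
  have hO1 : PicF.IsInvertible O1 := Var76.Reg.isInvertible_twist 1
  obtain ⟨L, hL, ⟨τL⟩⟩ := S11763.result A fX h2 L₀ (Amp73.isInvertible_pullback ε hO1)
  have hcoh := Amp73.isCoh_of_isInvertible hL
  haveI := hcoh.1
  -- lift of the coordinates
  have hsurj := Lift3.ClosedFibre.pullUnit_top_surjective A L (S4462.result A X L hcoh
    (Cube73.isFlatOver_of_isInvertible _ hL) 0
    (subsingleton_fiberH A L 1 (Lift3.AdicPic.subsingleton_hh_of_iso τL.symm 1 h1)) 0)
  let s₀ : Fin (r + 1) → ProjUP.Γm L₀ := fun j => ProjUP.pullSec ε O1 (ProjUP.coord r A j)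
  choose s hs using fun j => hsurj (τL.inv.app ⊤ (s₀ j))
  have hs' : ∀ j, ProjUP.pullSec i L (s j) = τL.inv.app ⊤ (s₀ j) := hs
  have hgen : ProjUP.GeneratedBy L s := by
    refine generatedBy_of_closedFibre A L hL s fun z => ?_
    have h0 := EGA73.AffineSections.generatedBy_pullSec r ε z
    have := congrArg (Submodule.map (stalkLinear τL.inv z)) h0
    rw [Submodule.map_span, ← Set.range_comp, Submodule.map_top, LinearMap.range_eq_top.2 ?_] at this
    · refine Eq.trans ?_ this
      congr 2
      funext j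
      refine Eq.trans ?_ (stalkMapM_germ τL.inv (U := ⊤) (x := z) trivial (s₀ j)).symm
      exact congrArg (germM ((Scheme.Modules.pullback i).obj L) ⊤ z trivial) (hs' j)
    · exact (ConcreteCategory.bijective_of_isIso ((TopCat.Presheaf.stalkFunctor _ z).map
        ((SheafOfModules.forget _ ⋙ PresheafOfModules.toPresheaf _).map τL.inv))).2
  obtain ⟨φ, hφ, τ, hτ⟩ := S3572.result r fX L hL s hgen
  -- the closed fibre
  have hw : (i ≫ φ) ≫ CohB1.ProjSpace.toSpec r A = ε ≫ CohB1.ProjSpace.toSpec r A := by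
    rw [Category.assoc, hφ, pullback.condition, ← he₀, Category.assoc, Category.assoc, sq.w]
  have hfib : i ≫ φ = ε := by
    refine S3573.result r _ _ hw (((Scheme.Modules.pullbackComp i φ).app O1).symm ≪≫
      (Scheme.Modules.pullback i).mapIso τ ≪≫ τL) fun j => ?_
    show τL.hom.app ⊤ (((Scheme.Modules.pullback i).map τ.hom).app ⊤
      (((Scheme.Modules.pullbackComp i φ).inv.app O1).app ⊤ (ProjUP.pullSec (i ≫ φ) O1 (ProjUP.coord r A j)))) = _
    rw [pullbackComp_pullSec, map_pullSec, hτ, hs', ← ConcreteCategory.comp_apply, ← Scheme.Modules.Hom.comp_app,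
      Iso.inv_hom_id]
    rfl
  have hiso : IsIso (pullback.map fX j₀ (CohB1.ProjSpace.toSpec r A) j₀ φ (𝟙 _) (𝟙 _)
      ((Category.comp_id _).trans hφ.symm) ((Category.comp_id _).trans (Category.id_comp _).symm)) := by
    have : pullback.map fX j₀ (CohB1.ProjSpace.toSpec r A) j₀ φ (𝟙 _) (𝟙 _)
        ((Category.comp_id _).trans hφ.symm) ((Category.comp_id _).trans (Category.id_comp _).symm) =
          e₀.hom ≫ sq.isoPullback.hom := by
      ext1
      · rw [pullback.lift_fst, Category.assoc, sq.isoPullback_hom_fst]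
        exact hfib
      · rw [pullback.lift_snd, Category.assoc, sq.isoPullback_hom_snd, he₀]
        exact Category.comp_id _
    rw [this]
    infer_instance
  obtain ⟨c, hc⟩ := exists_residueFieldIso A
  let Y := Spec (CommRingCat.of A)
  let jy := Y.fromSpecResidueField (closedPoint A)
  haveI : IsProper (CohB1.ProjSpace.toSpec r A) := Approx60.Segre.isProper_toSpec A r
  obtain ⟨U, hU, hUiso⟩ := S6712.result (closedPoint A) fX (CohB1.ProjSpace.toSpec r A) φ hφ (by
    let a := pullback.map fX j₀ fX jy (𝟙 _) (Spec.map c.hom) (𝟙 _) (by simp) (by rw [hc, Category.comp_id])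
    let b := pullback.map (CohB1.ProjSpace.toSpec r A) j₀ (CohB1.ProjSpace.toSpec r A) jy (𝟙 _) (Spec.map c.hom)
      (𝟙 _) (by simp) (by rw [hc, Category.comp_id])
    haveI : IsIso a := by show IsIso (pullback.map _ _ _ _ _ _ _ _ _); infer_instance
    haveI : IsIso b := by show IsIso (pullback.map _ _ _ _ _ _ _ _ _); infer_instance
    refine (isIso_comp_left_iff a _).1 ?_
    have : a ≫ pullback.map fX jy (CohB1.ProjSpace.toSpec r A) jy φ (𝟙 _) (𝟙 _)
        ((Category.comp_id _).trans hφ.symm) ((Category.comp_id _).trans (Category.id_comp _).symm) =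
        pullback.map fX j₀ (CohB1.ProjSpace.toSpec r A) j₀ φ (𝟙 _) (𝟙 _)
        ((Category.comp_id _).trans hφ.symm) ((Category.comp_id _).trans (Category.id_comp _).symm) ≫ b := by
      exact map_comm fX (CohB1.ProjSpace.toSpec r A) φ hφ j₀ jy (Spec.map c.hom) _
    rw [this]
    infer_instance)
  obtain rfl : U = ⊤ := by
    refine TopologicalSpace.Opens.ext (Set.eq_univ_of_forall fun y => ?_)
    exact (specializes_closedPoint y).mem_open U.2 hU
  haveI : IsIso φ := by
    haveI : IsIso (⊤ : Y.Opens).ι := by rw [← Scheme.topIso_hom]; infer_instance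
    let g : ∀ {W : Scheme.{u}} (q : W ⟶ Y), IsIso (pullback.fst q (⊤ : Y.Opens).ι) := fun q => inferInstance
    haveI := g fX
    haveI := g (CohB1.ProjSpace.toSpec r A)
    have h : pullback.map fX (⊤ : Y.Opens).ι (CohB1.ProjSpace.toSpec r A) (⊤ : Y.Opens).ι φ (𝟙 _) (𝟙 _)
        ((Category.comp_id _).trans hφ.symm) ((Category.comp_id _).trans (Category.id_comp _).symm) ≫
        pullback.fst _ _ = pullback.fst _ _ ≫ φ := pullback.lift_fst _ _ _
    exact (isIso_comp_left_iff (pullback.fst fX (⊤ : Y.Opens).ι) φ).1 (h ▸ inferInstance)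
  exact ⟨asIso φ, hφ⟩

end Groth.Agent.Def84
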